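import Cfsg.Agent.Recognition.SzEight.Field
import Cfsg.Agent.Recognition.SuzukiChar

/-!
`Sz(8)` with its field automorphism and the sixteen-dimensional tensor module.
-/

set_option autoImplicit false

namespace Cfsg.Agent.Recognition.SzEight

open Matrix Cfsg.Lie Cfsg.Agent.Recognition.SuzukiModule

/-- The matrices. -/
abbrev M4 := Matrix (Fin 4) (Fin 4) K8

/-- The group `Sz(8)`. -/
abbrev S := Sz K8 (2 ^ 2)

/-- A matrix from a table of codes. -/
def lit (A : Fin 4 → Fin 4 → ℕ) : M4 := Matrix.of fun i j => K8.of (A i j)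

/-- The form. -/
abbrev JJ : M4 := formMat K8

theorem altForm4_eq (u v : Fin 4 → K8) : altForm4 u v = u ⬝ᵥ (JJ *ᵥ v) := by
  simp [altForm4, formMat, Matrix.mulVec, dotProduct, Fin.sum_univ_succ, add_assoc]

theorem mem_sp4 {g : GL (Fin 4) K8} (h : g.1ᵀ * JJ * g.1 = JJ) : g ∈ Sp4 K8 := by
  intro u v
  simp only [Units.coeHom_apply]
  rw [altForm4_eq, altForm4_eq, Matrix.mulVec_mulVec, ← Matrix.vecMul_transpose, ← Matrix.dotProduct_mulVec,
    Matrix.mulVec_mulVec, ← Matrix.mul_assoc, h]

/-- An element of the group from a matrix with a finite order. -/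
theorem mem_of_checks {g : GL (Fin 4) K8}
    (h : g.1ᵀ * JJ * g.1 = JJ ∧ star4 g.1 = g.1.map fun x => x ^ (2 ^ 2)) : g ∈ S :=
  Subgroup.subset_closure ⟨mem_sp4 h.1, h.2⟩

/-- The automorphism of the general linear group. -/
def frobGL : GL (Fin 4) K8 →* GL (Fin 4) K8 := Matrix.GeneralLinearGroup.map K8.frob.toRingHom

/-- The entrywise square. -/
def sqM (X : M4) : M4 := X.map fun x => x * x

theorem frobGL_coe (g : GL (Fin 4) K8) : (frobGL g).1 = sqM g.1 := rfl

theorem sqM_eq (X : M4) : sqM X = K8.frob.toRingHom.mapMatrix X := rfl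

theorem sqM_mul (X Y : M4) : sqM (X * Y) = sqM X * sqM Y := by simp only [sqM_eq, map_mul]

theorem sqM_add (X Y : M4) : sqM (X + Y) = sqM X + sqM Y := by simp only [sqM_eq, map_add]

theorem sqM_transpose (X : M4) : sqM Xᵀ = (sqM X)ᵀ := rfl

theorem sqM_form : sqM JJ = JJ := by decide +kernel

theorem star4_sqM (X : M4) : star4 (sqM X) = sqM (star4 X) := by
  ext p r
  simp only [sqM, star4, Matrix.of_apply, Matrix.map_apply]
  rw [show ∀ a b : K8, (a - b) * (a - b) = a * a - b * b from
    fun a b => (map_sub K8.frob.toRingHom a b)]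
  ring

theorem frobGL_mem {g : GL (Fin 4) K8} (hg : g ∈ S) : frobGL g ∈ S := by
  obtain ⟨h1, h2⟩ := szPred_of_mem hg
  refine mem_of_checks ⟨?_, ?_⟩
  · rw [frobGL_coe, ← sqM_transpose, ← sqM_form, ← sqM_mul, ← sqM_mul, transpose_mul h1]
  · rw [frobGL_coe, star4_sqM, h2]
    ext i j
    simp [sqM, mul_pow]

theorem sqM_three (X : M4) : sqM (sqM (sqM X)) = X := by
  ext i j
  simp only [sqM, Matrix.map_apply]
  exact (show ∀ x : K8, x * x * (x * x) * (x * x * (x * x)) = x by decide +kernel) _

/-- The automorphism of `Sz(8)`. -/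
def sigma : MulAut S where
  toFun g := ⟨frobGL g, frobGL_mem g.2⟩
  invFun g := ⟨frobGL (frobGL g), frobGL_mem (frobGL_mem g.2)⟩
  left_inv g := Subtype.ext (Units.ext (sqM_three _))
  right_inv g := Subtype.ext (Units.ext (sqM_three _))
  map_mul' g h := Subtype.ext (map_mul frobGL (g : GL (Fin 4) K8) h)

theorem sigma_coe (g : S) : ((sigma g : S) : GL (Fin 4) K8).1 = sqM (g : GL (Fin 4) K8).1 := rfl

theorem sigma_three : sigma ^ 3 = 1 := by
  apply MulEquiv.ext
  intro g
  exact Subtype.ext (Units.ext (sqM_three _))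

/-- A homomorphism from the group of order three. -/
def ofOrderThree {G : Type*} [Group G] (s : G) (hs : s ^ 3 = 1) : Multiplicative (ZMod 3) →* G where
  toFun k := s ^ k.toAdd.val
  map_one' := by simp
  map_mul' a b := by
    rw [toAdd_mul, ← pow_add, ZMod.val_add, ← pow_eq_pow_mod _ hs]

/-- The action of the field automorphisms. -/
def fieldAct : Multiplicative (ZMod 3) →* MulAut S := ofOrderThree sigma sigma_three

/-- The group `Sz(8) : 3`. -/
abbrev G0 := S ⋊[fieldAct] Multiplicative (ZMod 3)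

/-- The module. -/
abbrev W := Multiplicative M4

/-- The action of a matrix pair on the module. -/
def rhoAut (g : GL (Fin 4) K8) : MulAut W where
  toFun X := Multiplicative.ofAdd (g.1 * X.toAdd * (sqM g.1)ᵀ)
  invFun X := Multiplicative.ofAdd ((g⁻¹).1 * X.toAdd * (sqM (g⁻¹).1)ᵀ)
  left_inv X := by
    simp only [toAdd_ofAdd, ← sqM_transpose]
    rw [show ∀ a b c d e : M4, a * (b * c * d) * e = (a * b) * c * (d * e) from fun a b c d e => by
      simp only [Matrix.mul_assoc], ← sqM_mul, ← Matrix.transpose_mul, ← Units.val_mul, inv_mul_cancel]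
    simp [sqM_eq]
  right_inv X := by
    simp only [toAdd_ofAdd, ← sqM_transpose]
    rw [show ∀ a b c d e : M4, a * (b * c * d) * e = (a * b) * c * (d * e) from fun a b c d e => by
      simp only [Matrix.mul_assoc], ← sqM_mul, ← Matrix.transpose_mul, ← Units.val_mul, mul_inv_cancel]
    simp [sqM_eq]
  map_mul' X Y := by simp [Matrix.mul_add, Matrix.add_mul]

/-- The representation of `Sz(8)`. -/
def rho : S →* MulAut W where
  toFun g := rhoAut g
  map_one' := by
    refine MulEquiv.ext fun X => ?_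
    simp [rhoAut, sqM_eq]
  map_mul' g h := by
    refine MulEquiv.ext fun X => ?_
    simp only [rhoAut, MulAut.mul_apply, MulEquiv.coe_mk, Equiv.coe_fn_mk, Subgroup.coe_mul, Units.val_mul,
      sqM_mul, Matrix.transpose_mul, toAdd_ofAdd, Matrix.mul_assoc]

/-- The semilinear generator. -/
def tauAut : MulAut W where
  toFun X := Multiplicative.ofAdd (sqM X.toAdd)
  invFun X := Multiplicative.ofAdd (sqM (sqM X.toAdd))
  left_inv X := by simp [sqM_three]
  right_inv X := by simp [sqM_three]
  map_mul' X Y := by simp [sqM_add]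

theorem tau_three : tauAut ^ 3 = 1 := by
  apply MulEquiv.ext
  intro X
  simp [pow_succ, tauAut, sqM_three]

theorem rho_sigma (g : S) : rho (sigma g) * tauAut = tauAut * rho g := by
  refine MulEquiv.ext fun X => ?_
  simp [rho, rhoAut, tauAut, sigma_coe, sqM_mul, sqM_transpose]

theorem rho_sigma_pow (n : ℕ) (g : S) : rho ((sigma ^ n) g) * tauAut ^ n = tauAut ^ n * rho g := by
  induction n generalizing g with
  | zero => simp
  | succ n ih =>
    rw [pow_succ', MulAut.mul_apply, pow_succ' tauAut, ← mul_assoc, rho_sigma, mul_assoc, ih, ← mul_assoc]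

/-- The action of `Sz(8) : 3`. -/
def act : G0 →* MulAut W :=
  SemidirectProduct.lift rho (ofOrderThree tauAut tau_three) fun k => MonoidHom.ext fun g => by
    simp only [MonoidHom.comp_apply, MulEquiv.coe_toMonoidHom, MulAut.conj_apply]
    exact eq_mul_inv_of_mul_eq (rho_sigma_pow _ g)

end Cfsg.Agent.Recognition.SzEight
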