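import Cfsg.Agent.Recognition.SzEight.Data
import Cfsg.Agent.Recognition.Extension

/-!
Element orders of `Sz(8) : 3` and the action of the elements of order thirteen.
-/

set_option autoImplicit false
set_option maxRecDepth 100000

namespace Cfsg.Agent.Recognition.SzEight

open Matrix Cfsg.Lie Cfsg.Agent.Recognition.SuzukiModule Cfsg.Agent.Recognition.Extension

/-- The exponent attached to a trace. -/
def ordOf (t : K8) : ℕ :=
  [4, 5, 7, 13, 7, 13, 7, 13].getD t.code.val 0

/-- The coefficients of `g ^ n` on `g ^ 3, g ^ 2, g, 1`. -/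
def coeffs (t : K8) : ℕ → K8 × K8 × K8 × K8
  | 0 => (0, 0, 0, 1)
  | n + 1 =>
    let c := coeffs t n
    (c.2.1 + c.1 * t, c.2.2.1 + c.1 * t ^ (2 ^ 2), c.2.2.2 + c.1 * t, c.1)

theorem coeffs_ordOf : ∀ t : K8, coeffs t (ordOf t) = (0, 0, 0, 1) := by decide +kernel

theorem char_eq (g : S) :
    (g.1.1) ^ 4 + g.1.1.trace • (g.1.1) ^ 3 + (g.1.1.trace ^ 2 ^ 2) • (g.1.1) ^ 2 + g.1.1.trace • g.1.1 + 1 = 0 := by
  have h := Matrix.aeval_self_charpoly g.1.1
  rw [SuzukiChar.charpoly_eq g.2] at h
  simpa only [map_add, map_mul, Polynomial.aeval_X, Polynomial.aeval_X_pow, Polynomial.aeval_C, map_one,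
    ← Algebra.smul_def] using h

theorem neg_eq_self (M : M4) : -M = M := by ext i j; rfl

theorem pow_eq_coeffs (g : S) (n : ℕ) :
    g.1.1 ^ n = (coeffs g.1.1.trace n).1 • g.1.1 ^ 3 + (coeffs g.1.1.trace n).2.1 • g.1.1 ^ 2 +
      (coeffs g.1.1.trace n).2.2.1 • g.1.1 + (coeffs g.1.1.trace n).2.2.2 • (1 : M4) := by
  induction n with
  | zero => simp [coeffs]
  | succ n ih =>
    have h4 : g.1.1 ^ 4 = g.1.1.trace • g.1.1 ^ 3 + (g.1.1.trace ^ 2 ^ 2) • g.1.1 ^ 2 + g.1.1.trace • g.1.1 + 1 := by
      rw [← sub_eq_zero, sub_eq_add_neg, neg_eq_self]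
      rw [← char_eq g]
      abel
    rw [pow_succ, ih]
    simp only [Matrix.add_mul, Matrix.smul_mul, ← pow_succ, Matrix.one_mul, ← sq, coeffs]
    rw [h4]
    module

theorem pow_ordOf (g : S) : g ^ ordOf g.1.1.trace = 1 := by
  refine Subtype.ext (Units.ext ?_)
  rw [SubmonoidClass.coe_pow, Units.val_pow_eq_pow_val, pow_eq_coeffs, coeffs_ordOf]
  simp

theorem orderOf_dvd_ordOf (g : S) : orderOf g ∣ ordOf g.1.1.trace :=
  orderOf_dvd_of_pow_eq_one (pow_ordOf g)

theorem ordOf_cases : ∀ t : K8, ordOf t = 4 ∨ ordOf t = 5 ∨ ordOf t = 7 ∨ ordOf t = 13 := by decide +kernel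

theorem ordOf_fixed : ∀ t : K8, (t * t = t ∨ t * t * (t * t) = t) → ordOf t = 4 ∨ ordOf t = 5 := by
  decide +kernel

theorem trace_sq (X : M4) : (sqM X).trace = X.trace * X.trace := by
  simp only [Matrix.trace, Matrix.diag, sqM, Matrix.map_apply]
  exact (map_sum K8.frob.toRingHom _ _).symm

/-- Elements with trace of order thirteen type. -/
theorem thirteen_scalar : ∀ t : K8, ordOf t = 13 →
    t + t * t ≠ 0 ∧
      ∃ c : K8, (t + t * t) * c = t ^ 4 + (t * t) ^ 4 ∧ c * c + t * t * c + (t * t) ^ 4 ≠ 0 := by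
  decide +kernel

theorem smul_cancel (a : K8) (ha : a ≠ 0) {M : M4} (h : a • M = 0) : M = 0 :=
  (smul_eq_zero.1 h).resolve_left ha

theorem fpf_thirteen_core (g : S) (h13 : ordOf g.1.1.trace = 13) (X : M4)
    (hX : g.1.1 * X * (sqM g.1.1)ᵀ = X) : X = 0 := by
  set A := g.1.1 with hA
  set t := A.trace with ht
  set B := sqM A with hB
  set Y := X * JJ with hY
  have hmem := (szPred_of_mem g.2).1
  have hBJ : Bᵀ * JJ * B = JJ := by
    rw [hB, ← sqM_transpose, ← sqM_form, ← sqM_mul, ← sqM_mul, transpose_mul hmem]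
  have hcomm : A * Y = Y * B := by
    calc A * Y = A * X * (Bᵀ * JJ * B) := by rw [hBJ, hY, ← Matrix.mul_assoc]
      _ = A * X * Bᵀ * (JJ * B) := by simp only [Matrix.mul_assoc]
      _ = Y * B := by rw [hX, hY, Matrix.mul_assoc]
  have hpoly : ∀ P : Polynomial K8, Polynomial.aeval A P * Y = Y * Polynomial.aeval B P := by
    intro P
    induction P using Polynomial.induction_on' with
    | add p q hp hq => simp [Matrix.mul_add, Matrix.add_mul, hp, hq]
    | monomial n a =>
      simp only [Polynomial.aeval_monomial, ← Algebra.smul_def, Matrix.mul_smul, Matrix.smul_mul]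
      rw [(SemiconjBy.pow_right (show SemiconjBy Y B A from hcomm.symm) n).eq]
  obtain ⟨hne, c, hc, hK⟩ := thirteen_scalar t h13
  let p : K8 → Polynomial K8 := fun s =>
    Polynomial.X ^ 4 + Polynomial.C s * Polynomial.X ^ 3 + Polynomial.C (s ^ 2 ^ 2) * Polynomial.X ^ 2 +
      Polynomial.C s * Polynomial.X + 1
  have h1 : Y * Polynomial.aeval B (p t) = 0 := by
    rw [← hpoly, show p t = A.charpoly from (SuzukiChar.charpoly_eq g.2).symm, Matrix.aeval_self_charpoly,
      Matrix.zero_mul]
  have h2 : Y * Polynomial.aeval B (p (t * t)) = 0 := by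
    have hb := Matrix.aeval_self_charpoly (sigma g).1.1
    rw [SuzukiChar.charpoly_eq (sigma g).2, sigma_coe, trace_sq] at hb
    rw [show Polynomial.aeval B (p (t * t)) = 0 from hb, Matrix.mul_zero]
  have two : (2 : Polynomial K8) = 0 := CharTwo.two_eq_zero
  set Q : Polynomial K8 := Polynomial.X ^ 2 + Polynomial.C c * Polynomial.X + 1 with hQ
  have e1 : p t + p (t * t) = Polynomial.C (t + t * t) * (Q * Polynomial.X) := by
    simp only [p, hQ, Polynomial.C_add]
    have hC := congrArg (Polynomial.C) hc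
    simp only [map_add, map_mul, map_pow] at hC ⊢
    linear_combination (-(Polynomial.X ^ 2)) * hC + (Polynomial.X ^ 4 + 1) * two
  have hu : IsUnit B := by
    rw [hB, sqM_eq]
    exact g.1.isUnit.map K8.frob.toRingHom.mapMatrix
  have hq : Y * Polynomial.aeval B Q = 0 := by
    have h := congrArg (fun P => Y * Polynomial.aeval B P) e1
    rw [map_add, Matrix.mul_add, h1, h2, add_zero, map_mul (Polynomial.aeval B), map_mul (Polynomial.aeval B),
      Polynomial.aeval_C, Polynomial.aeval_X, ← Algebra.smul_def, Matrix.mul_smul] at h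
    exact hu.mul_left_eq_zero.1 (by rw [Matrix.mul_assoc]; exact smul_cancel _ hne h.symm)
  have e2 : p (t * t) = Q * (Polynomial.X ^ 2 + Polynomial.C (t * t + c) * Polynomial.X + 1) +
      Polynomial.C (c * c + t * t * c + (t * t) ^ 4) * Polynomial.X ^ 2 := by
    simp only [p, hQ, map_add, map_mul, map_pow]
    norm_num
    linear_combination (-(Polynomial.C c * Polynomial.X ^ 3) - Polynomial.X ^ 2
      - Polynomial.C c * Polynomial.X
      - (Polynomial.C c * Polynomial.C c + Polynomial.C t * Polynomial.C t * Polynomial.C c) * Polynomial.X ^ 2) * two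
  have h := congrArg (fun P => Y * Polynomial.aeval B P) e2
  rw [h2, map_add (Polynomial.aeval B), map_mul (Polynomial.aeval B), map_mul (Polynomial.aeval B),
    Polynomial.aeval_C, Polynomial.aeval_X_pow, ← Algebra.smul_def, Matrix.mul_add, ← Matrix.mul_assoc, hq,
    Matrix.zero_mul, zero_add, Matrix.mul_smul] at h
  have hY0 : Y = 0 := (hu.pow 2).mul_left_eq_zero.1 (smul_cancel _ hK h.symm)
  have h' := congrArg (· * JJ) hY0
  simpa [hY, Matrix.mul_assoc, formMat_mul_self] using h'

theorem fpf_thirteen (g : S) (hg : orderOf g = 13) :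
    Fpf act (SemidirectProduct.inl g : G0) := by
  intro k hk
  rw [show act (SemidirectProduct.inl g) = rho g from SemidirectProduct.lift_inl _ _ _ _] at hk
  have h13 : ordOf g.1.1.trace = 13 := by
    have := orderOf_dvd_ordOf g
    rw [hg] at this
    rcases ordOf_cases g.1.1.trace with h | h | h | h <;> rw [h] at this <;> first | exact h | norm_num at this
  exact Multiplicative.toAdd.injective (fpf_thirteen_core g h13 k.toAdd (congrArg Multiplicative.toAdd hk))

theorem trace_sigma (g : S) : (sigma g).1.1.trace = g.1.1.trace * g.1.1.trace := by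
  rw [sigma_coe, trace_sq]

theorem ordOf_of_commute (w : G0) (hw : w.right ≠ 1) (u : S)
    (hc : Commute w (SemidirectProduct.inl u)) : ordOf u.1.1.trace = 4 ∨ ordOf u.1.1.trace = 5 := by
  have h := congrArg SemidirectProduct.left hc.eq
  simp only [SemidirectProduct.mul_left, SemidirectProduct.left_inl, SemidirectProduct.right_inl, map_one,
    MulAut.one_apply] at h
  have ht : (fieldAct w.right u).1.1.trace = u.1.1.trace := by
    have h' : fieldAct w.right u = w.left⁻¹ * u * w.left := by
      rw [mul_assoc, ← h]; group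
    rw [h', Subgroup.coe_mul, Subgroup.coe_mul, Subgroup.coe_inv, Units.val_mul, Units.val_mul,
      Matrix.trace_mul_cycle, ← Units.val_mul, mul_inv_cancel, Units.val_one, Matrix.one_mul]
  have hk : w.right = Multiplicative.ofAdd (1 : ZMod 3) ∨ w.right = Multiplicative.ofAdd (2 : ZMod 3) :=
    (show ∀ k : Multiplicative (ZMod 3), k ≠ 1 → k = Multiplicative.ofAdd (1 : ZMod 3) ∨
      k = Multiplicative.ofAdd (2 : ZMod 3) by decide) _ hw
  refine ordOf_fixed _ ?_
  rcases hk with e | e <;> rw [e] at ht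
  · left
    rwa [show fieldAct (Multiplicative.ofAdd (1 : ZMod 3)) = sigma from pow_one sigma, trace_sigma] at ht
  · right
    rwa [show fieldAct (Multiplicative.ofAdd (2 : ZMod 3)) = sigma ^ 2 from rfl, pow_two, MulAut.mul_apply,
      trace_sigma, trace_sigma] at ht

theorem inl_of_right {y : G0} (h : y.right = 1) : y = SemidirectProduct.inl y.left := by
  ext <;> simp [h]

theorem right_pow (y : G0) (n : ℕ) : (y ^ n).right = y.right ^ n :=
  map_pow (SemidirectProduct.rightHom : G0 →* _) y n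

theorem right_dvd (y : G0) : orderOf y.right ∣ orderOf y :=
  orderOf_map_dvd SemidirectProduct.rightHom y

theorem orderOf_inl (u : S) : orderOf (SemidirectProduct.inl u : G0) = orderOf u :=
  orderOf_injective _ SemidirectProduct.inl_injective u

theorem right_pow_three (y : G0) : y.right ^ 3 = 1 := by
  generalize y.right = k
  revert k
  decide

theorem prime_dvd_of_left (r : ℕ) (hr : r.Prime) (u : S) (h : r ∣ orderOf u) : r ∈ [2, 5, 7, 13] := by
  have hd := h.trans (orderOf_dvd_ordOf u)
  rcases ordOf_cases u.1.1.trace with e | e | e | e <;> rw [e] at hd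
  · rw [show 4 = 2 * 2 from rfl, hr.dvd_mul, or_self] at hd
    simp [(Nat.prime_dvd_prime_iff_eq hr Nat.prime_two).1 hd]
  all_goals simp [(Nat.prime_dvd_prime_iff_eq hr (by norm_num)).1 hd]

theorem prime_dvd_G0 (r : ℕ) [hr : Fact r.Prime] (h : r ∣ Nat.card G0) : r ∈ [2, 3, 5, 7, 13] := by
  haveI : Finite G0 := Finite.of_equiv _ SemidirectProduct.equivProd.symm
  obtain ⟨y, hy⟩ := exists_prime_orderOf_dvd_card' r h
  by_cases h3 : r = 3
  · simp [h3]
  · have hright : y.right = 1 := by
      have hd : orderOf y.right ∣ Nat.gcd r 3 :=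
        Nat.dvd_gcd (hy ▸ right_dvd y) (orderOf_dvd_of_pow_eq_one (right_pow_three y))
      rw [(Nat.coprime_primes hr.out Nat.prime_three).2 h3, Nat.dvd_one] at hd
      exact orderOf_eq_one_iff.1 hd
    have := prime_dvd_of_left r hr.out y.left (by rw [← orderOf_inl, ← inl_of_right hright, hy])
    simp only [List.mem_cons, List.not_mem_nil, or_false] at this ⊢
    omega

theorem three_edge (s : ℕ) (hs : s.Prime) (hs3 : s ≠ 3) (y : G0) (hy : orderOf y = 3 * s) :
    3 * s = 6 ∨ 3 * s = 15 := by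
  have hz : orderOf (y ^ 3) = s := by
    rw [orderOf_pow_of_dvd (by norm_num) (hy ▸ dvd_mul_right 3 s), hy, Nat.mul_div_cancel_left _ (by norm_num)]
  have hzr : (y ^ 3).right = 1 := by rw [right_pow, right_pow_three]
  have hzl : y ^ 3 = SemidirectProduct.inl (y ^ 3).left := inl_of_right hzr
  have hsd : s ∣ ordOf (y ^ 3).left.1.1.trace := by
    have := orderOf_dvd_ordOf (y ^ 3).left
    rwa [← orderOf_inl, ← hzl, hz] at this
  have hwo : orderOf (y ^ s) = 3 := by
    rw [orderOf_pow_of_dvd hs.ne_zero (hy ▸ dvd_mul_left s 3), hy, Nat.mul_div_cancel _ hs.pos]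
  have hwr : (y ^ s).right ≠ 1 := by
    intro hwr
    have := prime_dvd_of_left 3 Nat.prime_three (y ^ s).left
      (by rw [← orderOf_inl, ← inl_of_right hwr, hwo])
    simp at this
  rcases ordOf_of_commute (y ^ s) hwr (y ^ 3).left
    (by rw [← hzl]; exact Commute.pow_pow (Commute.refl y) s 3) with e | e <;> rw [e] at hsd
  · rw [show 4 = 2 * 2 from rfl, hs.dvd_mul, or_self, Nat.prime_dvd_prime_iff_eq hs Nat.prime_two] at hsd
    omega
  · rw [Nat.prime_dvd_prime_iff_eq hs (by norm_num)] at hsd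
    omega

theorem G0_edge (r s : ℕ) (hr : r.Prime) (hs : s.Prime) (hrs : r ≠ s) (y : G0) (hy : orderOf y = r * s) :
    r * s = 6 ∨ r * s = 15 := by
  by_cases hr3 : r = 3
  · subst hr3; exact three_edge s hs (Ne.symm hrs) y hy
  by_cases hs3 : s = 3
  · subst hs3; rw [mul_comm] at hy ⊢; exact three_edge r hr hrs y hy
  exfalso
  have hright : y.right = 1 := by
    have hd : orderOf y.right ∣ Nat.gcd (r * s) 3 :=
      Nat.dvd_gcd (hy ▸ right_dvd y) (orderOf_dvd_of_pow_eq_one (right_pow_three y))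
    rw [Nat.Coprime.mul_left ((Nat.coprime_primes hr Nat.prime_three).2 hr3)
      ((Nat.coprime_primes hs Nat.prime_three).2 hs3), Nat.dvd_one] at hd
    exact orderOf_eq_one_iff.1 hd
  have hd := orderOf_dvd_ordOf y.left
  rw [← orderOf_inl, ← inl_of_right hright, hy] at hd
  have key : ∀ {p : ℕ}, p.Prime → r * s ∣ p → False := by
    intro p hp h
    have := (Nat.prime_dvd_prime_iff_eq hr hp).1 ((dvd_mul_right r s).trans h)
    have := (Nat.prime_dvd_prime_iff_eq hs hp).1 ((dvd_mul_left s r).trans h)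
    omega
  rcases ordOf_cases y.left.1.1.trace with e | e | e | e <;> rw [e] at hd
  · have h1 := (dvd_mul_right r s).trans hd
    have h2 := (dvd_mul_left s r).trans hd
    rw [show 4 = 2 * 2 from rfl, hr.dvd_mul, or_self, Nat.prime_dvd_prime_iff_eq hr Nat.prime_two] at h1
    rw [show 4 = 2 * 2 from rfl, hs.dvd_mul, or_self, Nat.prime_dvd_prime_iff_eq hs Nat.prime_two] at h2
    omega
  all_goals exact key (by norm_num) hd

end Cfsg.Agent.Recognition.SzEight
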