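import Mathlib

/-!
A field with eight elements with table operations.
-/

set_option autoImplicit false

namespace Cfsg.Agent.Recognition.SzEight

/-- The field with eight elements, `x ^ 3 = x + 1`, coded in three bits. -/
structure K8 : Type where
  /-- The code. -/
  code : Fin 8
  deriving DecidableEq

namespace K8

/-- The element with a given code. -/
def of (n : ℕ) : K8 := ⟨⟨n % 8, Nat.mod_lt _ (by norm_num)⟩⟩

/-- The code as an equivalence. -/
def equivFin : K8 ≃ Fin 8 := ⟨code, mk, fun _ => rfl, fun _ => rfl⟩

instance : Fintype K8 := Fintype.ofEquiv (Fin 8) equivFin.symm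

/-- The product table. -/
def mulTab : ℕ := 0x73157889d3f0cfa868356ee0467b98bcbd10fac688000000

/-- The inverse table. -/
def invTab : ℕ := 0x8d7d48

instance : Zero K8 := ⟨⟨0⟩⟩

instance : Add K8 := ⟨fun a b => of (a.code.val ^^^ b.code.val)⟩

instance : Neg K8 := ⟨id⟩

instance : CommRing K8 where
  mul a b := of (mulTab >>> (3 * (8 * a.code.val + b.code.val)))
  one := ⟨1⟩
  add_assoc := by decide +kernel
  zero_add := by decide +kernel
  add_zero := by decide +kernel
  add_comm := by decide +kernel
  left_distrib := by decide +kernel
  right_distrib := by decide +kernel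
  zero_mul := by decide +kernel
  mul_zero := by decide +kernel
  mul_assoc := by decide +kernel
  one_mul := by decide +kernel
  mul_one := by decide +kernel
  mul_comm := by decide +kernel
  neg_add_cancel := by decide +kernel
  natCast n := of (n % 2)
  natCast_zero := rfl
  natCast_succ n := by
    rcases Nat.mod_two_eq_zero_or_one n with h | h <;> simp [Nat.add_mod, h] <;> rfl
  intCast n := of (n.natAbs % 2)
  intCast_ofNat _ := rfl
  intCast_negSucc _ := rfl
  nsmul := nsmulRec
  zsmul := zsmulRec

instance : Field K8 where
  inv a := of (invTab >>> (3 * a.code.val))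
  exists_pair_ne := ⟨0, 1, by decide +kernel⟩
  mul_inv_cancel := by decide +kernel
  inv_zero := by decide +kernel
  nnqsmul := _
  qsmul := _

instance : CharP K8 2 :=
  CharTwo.of_one_ne_zero_of_two_eq_zero (by decide +kernel) (by decide +kernel)

/-- Squaring, an automorphism of order three. -/
def frob : K8 ≃+* K8 where
  toFun x := x * x
  invFun x := x * x * (x * x)
  left_inv := by decide +kernel
  right_inv := by decide +kernel
  map_mul' := by decide +kernel
  map_add' := by decide +kernel

end K8

end Cfsg.Agent.Recognition.SzEight
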