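import Cfsg.Agent.Recognition.SzEight.Facts

/-!
Arbitrarily large extensions of a two-group by `Sz(8) : 3` with edges exactly two-three, two-five, two-seven
and three-five.
-/

set_option autoImplicit false
set_option maxRecDepth 100000

namespace Cfsg.Agent.Recognition.SzEight

open Matrix Cfsg.Lie Cfsg.Agent.Recognition.SuzukiModule Cfsg.Agent.Recognition.Extension

/-- A unit from a matrix of known order. -/
def unitOfPow (A : M4) (n : ℕ) (h : A ^ (n + 1) = 1) : GL (Fin 4) K8 :=
  ⟨A, A ^ n, by rw [← pow_succ', h], by rw [← pow_succ, h]⟩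

/-- An involution over the prime field. -/
def m2 : M4 := lit ![![1, 0, 0, 0], ![0, 1, 0, 0], ![1, 0, 1, 0], ![1, 1, 0, 1]]

/-- An element of order five over the prime field. -/
def m5 : M4 := lit ![![1, 0, 1, 1], ![0, 1, 0, 1], ![1, 0, 0, 1], ![1, 1, 1, 1]]

/-- An element of order seven. -/
def m7 : M4 := lit ![![2, 0, 0, 0], ![0, 3, 0, 0], ![0, 0, 6, 0], ![0, 0, 0, 5]]

/-- An element of order thirteen. -/
def m13 : M4 := lit ![![3, 2, 7, 2], ![6, 0, 7, 7], ![6, 1, 5, 6], ![2, 7, 7, 1]]

theorem pow_checks : m2 ^ 2 = 1 ∧ m5 ^ 5 = 1 ∧ m7 ^ 7 = 1 ∧ m13 ^ 13 = 1 := by decide +kernel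

theorem ne_checks : m2 ≠ 1 ∧ m5 ≠ 1 ∧ m7 ≠ 1 ∧ m13 ≠ 1 ∧ sqM m2 = m2 ∧ sqM m5 = m5 := by decide +kernel

/-- The defining conditions of `Sz(8)`. -/
def SzCond (A : M4) : Prop := Aᵀ * JJ * A = JJ ∧ star4 A = A.map fun x => x ^ (2 ^ 2)

instance (A : M4) : Decidable (SzCond A) := inferInstanceAs (Decidable (_ ∧ _))

theorem sz_checks : SzCond m2 ∧ SzCond m5 ∧ SzCond m7 ∧ SzCond m13 := by decide +kernel

/-- An element of `Sz(8)` from checks. -/
def mkS (A : M4) (n : ℕ) (h : A ^ (n + 1) = 1) (hc : SzCond A) : S :=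
  ⟨unitOfPow A n h, mem_of_checks hc⟩

theorem orderOf_mkS (A : M4) (n : ℕ) (h : A ^ (n + 1) = 1) (hc : SzCond A) (hp : (n + 1).Prime)
    (hne : A ≠ 1) : orderOf (mkS A n h hc) = n + 1 := by
  haveI := Fact.mk hp
  refine orderOf_eq_prime ?_ fun e => hne (congrArg (fun g : S => g.1.1) e)
  exact Subtype.ext (Units.ext (by rw [SubmonoidClass.coe_pow, Units.val_pow_eq_pow_val]; exact h))

/-- The involution. -/
def s2 : S := mkS m2 1 pow_checks.1 sz_checks.1

/-- The element of order five. -/
def s5 : S := mkS m5 4 pow_checks.2.1 sz_checks.2.1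

/-- The element of order seven. -/
def s7 : S := mkS m7 6 pow_checks.2.2.1 sz_checks.2.2.1

/-- The element of order thirteen. -/
def s13 : S := mkS m13 12 pow_checks.2.2.2 sz_checks.2.2.2

theorem order_s2 : orderOf s2 = 2 := orderOf_mkS _ _ _ _ (by norm_num) ne_checks.1
theorem order_s5 : orderOf s5 = 5 := orderOf_mkS _ _ _ _ (by norm_num) ne_checks.2.1
theorem order_s7 : orderOf s7 = 7 := orderOf_mkS _ _ _ _ (by norm_num) ne_checks.2.2.1
theorem order_s13 : orderOf s13 = 13 := orderOf_mkS _ _ _ _ (by norm_num) ne_checks.2.2.2.1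

/-- The field automorphism in the group. -/
def fieldElem : G0 := SemidirectProduct.inr (Multiplicative.ofAdd (1 : ZMod 3))

theorem order_fieldElem : orderOf fieldElem = 3 := by
  haveI : Fact (Nat.Prime 3) := ⟨Nat.prime_three⟩
  rw [fieldElem, orderOf_injective _ SemidirectProduct.inr_injective]
  exact orderOf_eq_prime (by decide) (by decide)

theorem order_mul_fieldElem (u : S) (hu : sigma u = u) (h : Nat.Coprime (orderOf u) 3) :
    orderOf (SemidirectProduct.inl u * fieldElem : G0) = orderOf u * 3 := by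
  have hc : Commute (SemidirectProduct.inl u : G0) fieldElem := by
    have e : fieldElem * SemidirectProduct.inl u * fieldElem⁻¹ = SemidirectProduct.inl u := by
      rw [fieldElem, ← map_inv, ← SemidirectProduct.inl_aut,
        show fieldAct (Multiplicative.ofAdd (1 : ZMod 3)) = sigma from pow_one sigma, hu]
    exact (mul_inv_eq_iff_eq_mul.1 e).symm
  rw [hc.orderOf_mul_eq_mul_orderOf_of_coprime (by rwa [orderOf_inl, order_fieldElem]), orderOf_inl,
    order_fieldElem]

theorem exists_G0_six : ∃ y : G0, orderOf y = 6 :=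
  ⟨_, by rw [order_mul_fieldElem s2 (Subtype.ext (Units.ext ne_checks.2.2.2.2.1))
    (by rw [order_s2]; norm_num), order_s2]⟩

theorem exists_G0_fifteen : ∃ y : G0, orderOf y = 15 :=
  ⟨_, by rw [order_mul_fieldElem s5 (Subtype.ext (Units.ext ne_checks.2.2.2.2.2))
    (by rw [order_s5]; norm_num), order_s5]⟩

/-- A vector fixed by the element of order seven. -/
def fix7 : M4 := Matrix.single 0 1 1

theorem fixed_checks : m5 * JJ * (sqM m5)ᵀ = JJ ∧ m7 * fix7 * (sqM m7)ᵀ = fix7 ∧ JJ ≠ 0 ∧ fix7 ≠ 0 := by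
  decide +kernel

theorem orderOf_inl_mul_inr {M : Type*} [CommGroup M] {L : Type*} [Group L] (φ : L →* MulAut M) (g : L)
    (k : M) (hfix : φ g k = k) (hk : orderOf k = 2) (hodd : Nat.Coprime 2 (orderOf g)) :
    orderOf (SemidirectProduct.inl k * SemidirectProduct.inr g : M ⋊[φ] L) = 2 * orderOf g := by
  have e : SemidirectProduct.inr g * SemidirectProduct.inl k * (SemidirectProduct.inr g)⁻¹ =
      (SemidirectProduct.inl k : M ⋊[φ] L) := by
    rw [← map_inv, ← SemidirectProduct.inl_aut, hfix]
  have hc : Commute (SemidirectProduct.inl k : M ⋊[φ] L) (SemidirectProduct.inr g) :=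
    (mul_inv_eq_iff_eq_mul.1 e).symm
  have h1 : orderOf (SemidirectProduct.inl k : M ⋊[φ] L) = 2 := by
    rw [orderOf_injective _ SemidirectProduct.inl_injective, hk]
  rw [hc.orderOf_mul_eq_mul_orderOf_of_coprime (by rwa [h1, orderOf_inr]), h1, orderOf_inr]

/-- The edges. -/
def edges : List ℕ := [6, 10, 14, 15]

/-- The groups with this prime graph. -/
theorem exists_large (N : ℕ) : ∃ (H : Type) (_ : Group H) (_ : Finite H), N < Nat.card H ∧
    (∀ p : ℕ, p.Prime → (p ∣ Nat.card H ↔ p ∈ [2, 3, 5, 7, 13])) ∧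
    ∀ p q : ℕ, p.Prime → q.Prime → p ≠ q → ((∃ g : H, orderOf g = p * q) ↔ p * q ∈ edges) := by
  haveI : Finite G0 := Finite.of_equiv _ SemidirectProduct.equivProd.symm
  set φ := Extension.copies act (N + 1) with hφ
  have hexp : ∀ k : Fin (N + 1) → W, k ^ 2 = 1 := pow_eq_one_copies (fun X => by
    apply Multiplicative.toAdd.injective
    rw [toAdd_pow, toAdd_one, two_nsmul]
    exact (show ∀ Y : M4, Y + Y = 0 from fun Y => by ext i j; exact CharTwo.add_self_eq_zero _) _) (N + 1)
  haveI : Finite ((Fin (N + 1) → W) ⋊[φ] G0) := Finite.of_equiv _ SemidirectProduct.equivProd.symm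
  refine ⟨(Fin (N + 1) → W) ⋊[φ] G0, inferInstance, inferInstance, ?_, ?_, ?_⟩
  · exact (Nat.lt_succ_self N).trans (lt_card_copies act _)
  · intro p hp
    haveI := Fact.mk hp
    constructor
    · intro h
      rw [SemidirectProduct.card] at h
      rcases hp.dvd_mul.1 h with h' | h'
      · obtain ⟨n, hn⟩ := (IsPGroup.iff_card (p := 2)).1 (fun k => ⟨1, by rw [pow_one]; exact hexp k⟩ :
          IsPGroup 2 (Fin (N + 1) → W))
        rw [hn] at h'
        simp [(Nat.prime_dvd_prime_iff_eq hp Nat.prime_two).1 (hp.dvd_of_dvd_pow h')]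
      · exact prime_dvd_G0 p h'
    · intro h
      rw [SemidirectProduct.card]
      refine Dvd.dvd.mul_left ?_ _
      have hin : ∀ y : G0, orderOf y ∣ Nat.card G0 := fun y => orderOf_dvd_natCard y
      obtain ⟨y, hy⟩ : ∃ y : G0, p = orderOf y := by
        simp only [List.mem_cons, List.not_mem_nil, or_false] at h
        rcases h with rfl | rfl | rfl | rfl | rfl
        · exact ⟨_, (order_s2.symm.trans (orderOf_inl s2).symm)⟩
        · exact ⟨_, order_fieldElem.symm⟩
        · exact ⟨_, (order_s5.symm.trans (orderOf_inl s5).symm)⟩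
        · exact ⟨_, (order_s7.symm.trans (orderOf_inl s7).symm)⟩
        · exact ⟨_, (order_s13.symm.trans (orderOf_inl s13).symm)⟩
      exact hy ▸ hin y
  · intro r s hr hs hrs
    constructor
    · rintro ⟨x, hx⟩
      obtain ⟨c, hc⟩ := orderOf_right_dvd x
      have hd := orderOf_dvd_mul 2 hexp x
      rw [hc] at hd
      rcases (Nat.dvd_prime Nat.prime_two).1 (Nat.dvd_of_mul_dvd_mul_left (orderOf_pos _) hd) with rfl | rfl
      · rw [mul_one, hx] at hc
        rcases G0_edge r s hr hs hrs x.right hc.symm with h | h <;> simp [edges, h]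
      · rw [hx] at hc
        obtain ⟨t, ht, htm, ht2⟩ : ∃ t, t.Prime ∧ orderOf x.right = t ∧ t ≠ 2 := by
          rcases (Nat.Prime.dvd_mul Nat.prime_two).1 (⟨orderOf x.right, by rw [hc, mul_comm]⟩ : 2 ∣ r * s) with h | h
          · obtain rfl := (Nat.prime_dvd_prime_iff_eq Nat.prime_two hr).1 h
            exact ⟨s, hs, by linarith, fun e => hrs e.symm⟩
          · obtain rfl := (Nat.prime_dvd_prime_iff_eq Nat.prime_two hs).1 h
            exact ⟨r, hr, by linarith, hrs⟩
        haveI := Fact.mk ht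
        have hmem := prime_dvd_G0 t (htm ▸ orderOf_dvd_natCard x.right)
        simp only [List.mem_cons, List.not_mem_nil, or_false] at hmem
        rw [htm] at hc
        rcases hmem with rfl | rfl | rfl | rfl | rfl
        · exact absurd rfl ht2
        · simp [edges, hc]
        · simp [edges, hc]
        · simp [edges, hc]
        · exfalso
          have hright : x.right.right = 1 := by
            have hd : orderOf x.right.right ∣ Nat.gcd 13 3 :=
              Nat.dvd_gcd (htm ▸ right_dvd x.right) (orderOf_dvd_of_pow_eq_one (right_pow_three x.right))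
            exact orderOf_eq_one_iff.1 (Nat.eq_one_of_dvd_one hd)
          have hl := inl_of_right hright
          have hf : Fpf act x.right := by
            rw [hl]
            exact fpf_thirteen _ (by rw [← orderOf_inl, ← hl, htm])
          have h' := orderOf_of_fpf x (hf.copies (N + 1))
          rw [hx, htm, hc] at h'
          omega
    · intro h
      simp only [edges, List.mem_cons, List.not_mem_nil, or_false] at h
      have hlift : ∀ (u : S) (X : M4), X ≠ 0 → u.1.1 * X * (sqM u.1.1)ᵀ = X → Nat.Coprime 2 (orderOf u) →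
          ∃ g : (Fin (N + 1) → W) ⋊[φ] G0, orderOf g = 2 * orderOf u := by
        intro u X hX0 hX hco
        refine ⟨_, (orderOf_inl_mul_inr φ (SemidirectProduct.inl u) (fun _ => Multiplicative.ofAdd X) ?_ ?_
          (by rwa [orderOf_inl])).trans (by rw [orderOf_inl])⟩
        · funext i
          show act (SemidirectProduct.inl u) (Multiplicative.ofAdd X) = _
          rw [show act (SemidirectProduct.inl u) = rho u from SemidirectProduct.lift_inl _ _ _ _]
          exact congrArg Multiplicative.ofAdd hX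
        · haveI : Fact (Nat.Prime 2) := ⟨Nat.prime_two⟩
          exact orderOf_eq_prime (hexp _) fun e => hX0
            (congrArg Multiplicative.toAdd (congrFun e ⟨0, by omega⟩))
      rcases h with h | h | h | h <;> rw [h]
      · obtain ⟨y, hy⟩ := exists_G0_six
        exact ⟨_, (orderOf_inr y).trans hy⟩
      · obtain ⟨g, hg⟩ := hlift s5 JJ fixed_checks.2.2.1 fixed_checks.1 (by rw [order_s5]; norm_num)
        exact ⟨g, by rw [hg, order_s5]⟩
      · obtain ⟨g, hg⟩ := hlift s7 fix7 fixed_checks.2.2.2 fixed_checks.2.1 (by rw [order_s7]; norm_num)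
        exact ⟨g, by rw [hg, order_s7]⟩
      · obtain ⟨y, hy⟩ := exists_G0_fifteen
        exact ⟨_, (orderOf_inr y).trans hy⟩

end Cfsg.Agent.Recognition.SzEight
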